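import Groth.Agent.Lib.Helper3.ModDesc.ObjDesc
import Groth.Agent.Lib.Helper5.Lim.Model11

set_option autoImplicit false
universe u
open CategoryTheory CategoryTheory.Limits AlgebraicGeometry

namespace Groth.Agent.H3.ModDesc

open Groth.Agent.LD Groth.Agent.H5.Lim

section PullbackIso

/-- pulling back along an isomorphism and its inverse. -/
noncomputable def pullbackIsoInvIso {X Y : Scheme.{u}} (ε : X ≅ Y) (F : X.Modules) :
    (Scheme.Modules.pullback ε.hom).obj ((Scheme.Modules.pullback ε.inv).obj F) ≅ F :=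
  (Scheme.Modules.pullbackComp ε.hom ε.inv).app F ≪≫
    (Scheme.Modules.pullbackCongr ε.hom_inv_id).app F ≪≫ (Scheme.Modules.pullbackId X).app F

/-- pullback along a composite, with a proof of the factorization. -/
noncomputable def pullbackCompIso' {X Y Z : Scheme.{u}} (f : X ⟶ Y) (g : Y ⟶ Z) (h : X ⟶ Z)
    (w : f ≫ g = h) (F : Z.Modules) :
    (Scheme.Modules.pullback f).obj ((Scheme.Modules.pullback g).obj F) ≅
      (Scheme.Modules.pullback h).obj F :=
  (Scheme.Modules.pullbackComp f g).app F ≪≫ (Scheme.Modules.pullbackCongr w).app F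

end PullbackIso

section Model

variable {I : Type u} [SmallCategory I] [IsCofiltered I] (D : I ⥤ Scheme.{u}) (c : Cone D)
  (hc : IsLimit c) [∀ (i j : I) (f : i ⟶ j), IsAffineHom (D.map f)]

include hc in
/-- **descent of a finitely presented module on a scheme of finite presentation over a limit**:
given a model `M` of `h : X ⟶ lim D` at a qcqs stage `j` and a finitely presented module `F` on
`X`, at some later stage `F` is the pullback of a finitely presented module on the base change of
the model. -/
theorem exists_stage_model_module {X : Scheme.{u}} {h : X ⟶ c.pt} {j : I} (M : Model D c h j)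
    [CompactSpace (D.obj j)] [QuasiSeparatedSpace (D.obj j)]
    {F : X.Modules} (hF : F.IsFinitePresentation) :
    ∃ (k : I) (φ : k ⟶ j) (F₀ : (M.bc φ).Y.Modules), F₀.IsFinitePresentation ∧
      Nonempty (F ≅ (Scheme.Modules.pullback (M.bc φ).g).obj F₀) := by
  have : CompactSpace M.Y := M.compactSpace_Y
  have : QuasiSeparatedSpace M.Y := M.quasiSeparatedSpace_Y
  let ε : X ≅ pullback M.p (c.π.app j) := M.pb.isoPullback
  have hε1 : ε.hom ≫ pullback.fst M.p (c.π.app j) = M.g := M.pb.isoPullback_hom_fst
  have hε2 : ε.hom ≫ pullback.snd M.p (c.π.app j) = h := M.pb.isoPullback_hom_snd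
  let F' : (bcCone D c M.p).pt.Modules := (Scheme.Modules.pullback ε.inv).obj F
  have hF' : F'.IsFinitePresentation := QC.isFinitePresentation_pullback _ F hF
  have : ∀ (k l : Over j) (f : k ⟶ l), IsAffineHom ((bcDiagram D M.p).map f) :=
    fun k l f => isAffineHom_bcMap D M.p f inferInstance
  have : CompactSpace ↥((bcDiagram D M.p).obj (Over.mk (𝟙 j))) :=
    compactSpace_bcDiagram_obj D M.p _ inferInstance
  have : QuasiSeparatedSpace ↥((bcDiagram D M.p).obj (Over.mk (𝟙 j))) :=
    quasiSeparatedSpace_bcDiagram_obj D M.p _ inferInstance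
  obtain ⟨k', Fk, hFk, ⟨e⟩⟩ := exists_stage_module (bcDiagram D M.p) (bcCone D c M.p)
    (isLimitBcCone D c M.p hc) (Over.mk (𝟙 j)) hF'
  refine ⟨k'.left.left, k'.left.hom, Fk, hFk, ⟨?_⟩⟩
  have hg : ε.hom ≫ bcProj D c M.p k'.left = (M.bc k'.left.hom).g := by
    apply pullback.hom_ext
    · rw [Category.assoc, bcProj_fst, hε1]
      exact (pullback.lift_fst _ _ _).symm
    · rw [Category.assoc, bcProj_snd, reassoc_of% hε2]
      exact (pullback.lift_snd _ _ _).symm
  exact (pullbackIsoInvIso ε F).symm ≪≫ (Scheme.Modules.pullback ε.hom).mapIso e.symm ≪≫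
    pullbackCompIso' ε.hom (bcProj D c M.p k'.left) _ hg Fk

end Model

end Groth.Agent.H3.ModDesc
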