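import Groth.Agent.Lib.Lead.FPExt.Quot
import Groth.Agent.Lib.Lead.QC.Push
import Groth.Agent.Lib.Lead.QC.PullbackUnit
import Groth.Agent.Lib.Helper5.Lim.ModuleBridge

set_option autoImplicit false
universe u
open CategoryTheory CategoryTheory.Limits AlgebraicGeometry Opposite TopologicalSpace

namespace Groth.Agent.H3.ModDesc

open Groth.Agent.LD

variable {X Y : Scheme.{u}} (f : X ⟶ Y)

/-- the adjoint of `φ : G ⟶ f_* K` evaluated on the unit section. -/
lemma adj_app_unitSec (G : Y.Modules) (K : X.Modules)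
    (φ : G ⟶ (Scheme.Modules.pushforward f).obj K) (V : Y.Opens) (g : Γ(G, V)) :
    (((Scheme.Modules.pullbackPushforwardAdjunction f).homEquiv G K).symm φ).app (f ⁻¹ᵁ V)
      (QC.unitSec f G V g) = φ.app V g := by
  set ψ := ((Scheme.Modules.pullbackPushforwardAdjunction f).homEquiv G K).symm φ with hψ
  have h1 : φ = (Scheme.Modules.pullbackPushforwardAdjunction f).unit.app G ≫
      (Scheme.Modules.pushforward f).map ψ := by
    have := (Scheme.Modules.pullbackPushforwardAdjunction f).homEquiv_unit (X := G) (Y := K) (f := ψ)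
    rw [← this, hψ, Equiv.apply_symm_apply]
  rw [h1]
  rfl

/-- Let `f : X ⟶ Y` be an affine morphism to a quasi-compact quasi-separated scheme and `K` a
quasi-coherent module of finite type on `X`. Then `K` is a quotient of the pullback of a finitely
presented module on `Y`. -/
theorem exists_fp_pullback_epi [IsAffineHom f] [CompactSpace Y] [QuasiSeparatedSpace Y]
    (K : X.Modules) [hKq : K.IsQuasicoherent] (hK : K.IsFiniteType) :
    ∃ (H : Y.Modules) (ψ : (Scheme.Modules.pullback f).obj H ⟶ K),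
      H.IsFinitePresentation ∧ Epi ψ := by
  classical
  have : ((Scheme.Modules.pushforward f).obj K).IsQuasicoherent := QC.qc_pushforward f K
  obtain ⟨s, hs, e⟩ := isCompact_and_isOpen_iff_finite_and_eq_biUnion_affineOpens.mp
    ⟨(isCompact_univ : IsCompact (Set.univ : Set Y)), isOpen_univ⟩
  have hgen : ∀ V : Y.affineOpens, ∃ T : Finset Γ(K, f ⁻¹ᵁ V.1),
      Submodule.span Γ(X, f ⁻¹ᵁ V.1) (T : Set Γ(K, f ⁻¹ᵁ V.1)) = ⊤ := by
    intro V
    have := QC.finite_sections_of_isFiniteType K hK (V.2.preimage f)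
    exact Module.Finite.fg_top
  choose T hT using hgen
  let l : List (Σ V : Y.affineOpens, Γ((Scheme.Modules.pushforward f).obj K, V.1)) :=
    hs.toFinset.toList.flatMap (fun V => (T V).toList.map (fun t => ⟨V, t⟩))
  obtain ⟨G, φ, hG, hl⟩ := FPExt.exists_fp_through_sections ((Scheme.Modules.pushforward f).obj K) l
  refine ⟨G, ((Scheme.Modules.pullbackPushforwardAdjunction f).homEquiv G K).symm φ, hG, ?_⟩
  set ψ := ((Scheme.Modules.pullbackPushforwardAdjunction f).homEquiv G K).symm φ with hψ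
  have hGq : G.IsQuasicoherent := inferInstance
  have : ((Scheme.Modules.pullback f).obj G).IsQuasicoherent := QC.qc_pullback f G
  apply Groth.Agent.H5.Lim.epi_of_surjective_affine_cover
  intro x
  have hx : f.base x ∈ ⋃ i ∈ s, ((i : Y.Opens) : Set Y) := e ▸ Set.mem_univ _
  obtain ⟨V, hVs, hxV⟩ := Set.mem_iUnion₂.mp hx
  refine ⟨f ⁻¹ᵁ V.1, V.2.preimage f, hxV, ?_⟩
  let Rg : Submodule Γ(X, f ⁻¹ᵁ V.1) Γ(K, f ⁻¹ᵁ V.1) :=
    LinearMap.range (QC.appLinear ψ (f ⁻¹ᵁ V.1))
  have h1 : ∀ t' ∈ T V, t' ∈ Rg := by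
    intro t' ht'
    have hmem : (⟨V, t'⟩ : Σ V : Y.affineOpens, Γ((Scheme.Modules.pushforward f).obj K, V.1)) ∈ l := by
      simp only [l, List.mem_flatMap, List.mem_map, Finset.mem_toList]
      exact ⟨V, hs.mem_toFinset.mpr hVs, t', Finset.mem_toList.mpr ht', rfl⟩
    obtain ⟨g, hg⟩ := hl _ hmem
    refine ⟨QC.unitSec f G V.1 g, ?_⟩
    rw [QC.appLinear_apply]
    exact (adj_app_unitSec f G K φ V.1 g).trans hg
  have h2 : Rg = ⊤ := by
    rw [eq_top_iff, ← hT V, Submodule.span_le]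
    exact fun t' ht' => h1 t' ht'
  intro m
  have hm : m ∈ Rg := h2 ▸ Submodule.mem_top
  obtain ⟨g, hg⟩ := hm
  exact ⟨g, hg⟩

end Groth.Agent.H3.ModDesc
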