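import Groth.Agent.Lib.Helper3.ModDesc.FpEpi
import Groth.Agent.Lib.Helper5.Lim.ModuleHomSurj4
import Groth.Agent.Lib.Helper5.Lim.ModuleIso

set_option autoImplicit false
universe u
open CategoryTheory CategoryTheory.Limits AlgebraicGeometry Opposite TopologicalSpace

namespace Groth.Agent.H3.ModDesc

open Groth.Agent.LD Groth.Agent.H5.Lim

section Abstract

variable {C : Type*} [Category C] [Abelian C]

/-- an epimorphism `p : A ⟶ F` is the cokernel of `ψ ≫ kernel.ι p` for any epimorphism `ψ` onto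
its kernel. -/
theorem exists_cokernel_iso {A B F : C} (p : A ⟶ F) [Epi p] (ψ : B ⟶ kernel p) [Epi ψ] :
    ∃ e : cokernel (ψ ≫ kernel.ι p) ≅ F, cokernel.π (ψ ≫ kernel.ι p) ≫ e.hom = p := by
  let e2 := (colimit.isColimit (parallelPair (kernel.ι p) 0)).coconePointUniqueUpToIso
    (Abelian.epiIsCokernelOfKernel (KernelFork.ofι _ (kernel.condition p)) (kernelIsKernel p))
  refine ⟨cokernelEpiComp ψ (kernel.ι p) ≪≫ e2, ?_⟩
  have h1 : cokernel.π (ψ ≫ kernel.ι p) ≫ (cokernelEpiComp ψ (kernel.ι p)).hom =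
      cokernel.π (kernel.ι p) := by
    simp [cokernelEpiComp]
  rw [Iso.trans_hom, ← Category.assoc, h1]
  exact (colimit.isColimit (parallelPair (kernel.ι p) 0)).comp_coconePointUniqueUpToIso_hom _ _

end Abstract

end Groth.Agent.H3.ModDesc

namespace Groth.Agent.H3.ModDesc

open Groth.Agent.LD Groth.Agent.H5.Lim

section Limit

variable {I : Type u} [SmallCategory I] [IsCofiltered I] (D : I ⥤ Scheme.{u}) (c : Cone D)
  (hc : IsLimit c) [∀ (i j : I) (f : i ⟶ j), IsAffineHom (D.map f)]
  (i₀ : I) [CompactSpace (D.obj i₀)] [QuasiSeparatedSpace (D.obj i₀)]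

include hc in
/-- **descent of finitely presented quotients** (EGA IV 8.5.2): a finitely presented quotient of
the pullback to the limit of a finitely presented module on a qcqs stage comes from a finitely
presented quotient at some stage. -/
theorem exists_stage_quotient (F₀ : (D.obj i₀).Modules) (hF₀ : F₀.IsFinitePresentation)
    {G : c.pt.Modules} (hG : G.IsFinitePresentation)
    (p : (Scheme.Modules.pullback (c.π.app i₀)).obj F₀ ⟶ G) [Epi p] :
    ∃ (k : Over i₀) (Gk : (D.obj k.left).Modules)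
      (pk : (Scheme.Modules.pullback (D.map k.hom)).obj F₀ ⟶ Gk)
      (e : (Scheme.Modules.pullback (c.π.app k.left)).obj Gk ≅ G),
      Gk.IsFinitePresentation ∧ Epi pk ∧
      ((pullbackStageIso D c i₀ k.hom).app F₀).inv ≫
        (Scheme.Modules.pullback (c.π.app k.left)).map pk ≫ e.hom = p := by
  have : IsAffineHom (c.π.app i₀) := isAffineHom_π_app D c hc i₀
  have hF₀q : F₀.IsQuasicoherent := inferInstance
  have hGq : G.IsQuasicoherent := inferInstance
  have hFfp : ((Scheme.Modules.pullback (c.π.app i₀)).obj F₀).IsFinitePresentation :=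
    QC.isFinitePresentation_pullback _ F₀ hF₀
  have hFq : ((Scheme.Modules.pullback (c.π.app i₀)).obj F₀).IsQuasicoherent := inferInstance
  have hFft : ((Scheme.Modules.pullback (c.π.app i₀)).obj F₀).IsFiniteType := inferInstance
  have hKq : (kernel p).IsQuasicoherent := QC.qc_kernel p hFq hGq
  have hKft : (kernel p).IsFiniteType := isFiniteType_kernel_of_epi p hFft hG
  obtain ⟨H₀, ψ, hH₀, hψ⟩ := exists_fp_pullback_epi (c.π.app i₀) (kernel p) hKft
  have := hψ
  have hH₀q : H₀.IsQuasicoherent := inferInstance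
  obtain ⟨k, hk, hhk⟩ := exists_stage_hom_pullback_eq D c hc i₀ H₀ F₀ hH₀ (ψ ≫ kernel.ι p)
  have hAfp : ((Scheme.Modules.pullback (D.map k.hom)).obj H₀).IsFinitePresentation :=
    QC.isFinitePresentation_pullback _ H₀ hH₀
  have hAq : ((Scheme.Modules.pullback (D.map k.hom)).obj H₀).IsQuasicoherent := inferInstance
  have hAft : ((Scheme.Modules.pullback (D.map k.hom)).obj H₀).IsFiniteType := inferInstance
  have hBfp : ((Scheme.Modules.pullback (D.map k.hom)).obj F₀).IsFinitePresentation :=
    QC.isFinitePresentation_pullback _ F₀ hF₀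
  obtain ⟨e3, he3⟩ := exists_cokernel_iso p ψ
  have hcomm : (Scheme.Modules.pullback (c.π.app k.left)).map hk ≫
      ((pullbackStageIso D c i₀ k.hom).app F₀).hom =
      ((pullbackStageIso D c i₀ k.hom).app H₀).hom ≫ (ψ ≫ kernel.ι p) := by
    rw [← hhk, Iso.hom_inv_id_assoc]
  let e2 := cokernel.mapIso ((Scheme.Modules.pullback (c.π.app k.left)).map hk) (ψ ≫ kernel.ι p)
    ((pullbackStageIso D c i₀ k.hom).app H₀) ((pullbackStageIso D c i₀ k.hom).app F₀) hcomm
  let e1 := PreservesCokernel.iso (Scheme.Modules.pullback (c.π.app k.left)) hk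
  refine ⟨k, cokernel hk, cokernel.π hk, e1 ≪≫ e2 ≪≫ e3,
    FPExt.isFinitePresentation_cokernel hAft hBfp hk, inferInstance, ?_⟩
  rw [Iso.trans_hom, Iso.trans_hom]
  rw [PreservesCokernel.π_iso_hom_assoc]
  have h2 : cokernel.π ((Scheme.Modules.pullback (c.π.app k.left)).map hk) ≫ e2.hom =
      ((pullbackStageIso D c i₀ k.hom).app F₀).hom ≫ cokernel.π (ψ ≫ kernel.ι p) := by
    simp [e2, cokernel.mapIso]
  rw [reassoc_of% h2, he3, Iso.inv_hom_id_assoc]

include hc in
/-- **descent of finitely presented modules** (EGA IV 8.5.2 (ii)): a finitely presented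
quasi-coherent module on the limit is the pullback of a finitely presented module on some stage. -/
theorem exists_stage_module {F : c.pt.Modules} (hF : F.IsFinitePresentation) :
    ∃ (k : Over i₀) (Fk : (D.obj k.left).Modules), Fk.IsFinitePresentation ∧
      Nonempty ((Scheme.Modules.pullback (c.π.app k.left)).obj Fk ≅ F) := by
  have : IsAffineHom (c.π.app i₀) := isAffineHom_π_app D c hc i₀
  have hFq : F.IsQuasicoherent := inferInstance
  have hFft : F.IsFiniteType := inferInstance
  obtain ⟨G₀, ψ, hG₀, hψ⟩ := exists_fp_pullback_epi (c.π.app i₀) F hFft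
  have := hψ
  obtain ⟨k, Gk, pk, e, hGk, -, -⟩ := exists_stage_quotient D c hc i₀ G₀ hG₀ hF ψ
  exact ⟨k, Gk, hGk, ⟨e⟩⟩

end Limit

end Groth.Agent.H3.ModDesc
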